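import Mathlib
import Cfsg.Agent.Lib.Helper8.PSUOut
import Cfsg.Agent.Lib.Helper43.AutSp4.Core
import Cfsg.Agent.Lib.Helper43.AutSp4.Balance
import Cfsg.Agent.S0282

set_option autoImplicit false

/-!
# Local balance for `PSU_n(q)`: preliminaries

* `PSU_3(2)` is not simple;
* an involutory automorphism of a group of even order has an even number of fixed points;
* `PSU_n(q)`, `q` odd, has even order;
* a non-trivial element of `PSU_n(q)` fixed by all field automorphisms.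
-/

namespace Cfsg.Agent.Lib.Helper43.PSUBal

open Matrix Cfsg.Agent.Lib.Helper43.AutPSLn Cfsg.Agent.Lib.Helper43.FieldAut
  Cfsg.Agent.Lib.Helper43.AutSp4 Cfsg.Agent.Lib.Helper8

theorem h32_of_simple {F : Type*} [Field F] [Fintype F] {n q : ℕ}
    (hF : Fintype.card F = q ^ 2) (hK : IsSimpleGroup (Cfsg.PSU n F q)) : ¬ (n = 3 ∧ q = 2) := by
  rintro ⟨rfl, rfl⟩
  obtain ⟨hcard, hsolv⟩ := Cfsg.Agent.S0282.result (F := F) (by rw [hF]; norm_num)
  have hcomm : ∀ a b : Cfsg.PSU 3 F 2, a * b = b * a :=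
    IsSimpleGroup.comm_iff_isSolvable.mpr hsolv
  let inst : CommGroup (Cfsg.PSU 3 F 2) := { (inferInstance : Group (Cfsg.PSU 3 F 2)) with
    mul_comm := hcomm }
  have hprime : (Nat.card (Cfsg.PSU 3 F 2)).Prime := @IsSimpleGroup.prime_card _ inst hK
  rw [hcard] at hprime
  norm_num at hprime

theorem two_dvd_card_fix {K : Type*} [Group K] [Finite K] (β : MulAut K) (hβ : β ^ 2 = 1)
    (h2 : 2 ∣ Nat.card K) :
    2 ∣ Nat.card ↥(MonoidHom.eqLocus β.toMonoidHom (MonoidHom.id K)) := by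
  classical
  haveI : Fintype K := Fintype.ofFinite K
  haveI : Fact (Nat.Prime 2) := ⟨Nat.prime_two⟩
  obtain ⟨f, hf⟩ : ∃ f : Function.End K, f = ⇑β := ⟨_, rfl⟩
  have hf2 : f ^ 2 ^ 1 = 1 := by
    rw [pow_one, pow_two, hf]
    funext x
    show β (β x) = x
    have h1 := DFunLike.congr_fun hβ x
    rwa [pow_two] at h1
  have h1 := Equiv.Perm.card_fixedPoints_modEq (p := 2) (n := 1) hf2
  have e : Nat.card ↥(MonoidHom.eqLocus β.toMonoidHom (MonoidHom.id K)) =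
      Fintype.card ↑(Function.fixedPoints f) := by
    rw [← Nat.card_eq_fintype_card]
    apply Nat.card_congr
    refine Equiv.subtypeEquivRight (fun x => ?_)
    rw [hf]
    exact Iff.rfl
  rw [e]
  have h3 : Fintype.card K ≡ 0 [MOD 2] := by
    rw [← Nat.card_eq_fintype_card]
    exact Nat.modEq_zero_iff_dvd.mpr h2
  exact Nat.modEq_zero_iff_dvd.mp (h1.symm.trans h3)

variable {n : ℕ} {F : Type*} [Field F] [Fintype F] {q : ℕ}

local notation "Mx" => Matrix (Fin n) (Fin n) F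
local notation "SLn" => Matrix.SpecialLinearGroup (Fin n) F
local notation "GLn" => GL (Fin n) F

/-- A special unitary matrix whose class in `PSU_n` is trivial is scalar. -/
theorem scalar_of_mk_eq_one (hF : Fintype.card F = q ^ 2) (hn : 3 ≤ n) (h32 : ¬ (n = 3 ∧ q = 2))
    (s : ↥(Cfsg.SU n F q)) (h : (QuotientGroup.mk s : Cfsg.PSU n F q) = 1) :
    ∃ c : Fˣ, ((s : SLn) : Mx) = (c : F) • (1 : Mx) := by
  have h1 : (PSUSplit.cV (PSUSplit.suGU s) : MulAut (Cfsg.PSU n F q)) = 1 := by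
    rw [PSUSplit.cV_suGU, h, map_one]
  rw [PSUSplit.cV_apply, PSUAut.cU_eq_one_iff hF hn h32] at h1
  exact h1

/-- `PSU_n(q)`, `q` odd, has even order. -/
theorem two_dvd_card_psu (hF : Fintype.card F = q ^ 2) (hn : 3 ≤ n) (h32 : ¬ (n = 3 ∧ q = 2))
    (hq : Odd q) (h2 : (2 : F) ≠ 0) : 2 ∣ Nat.card (Cfsg.PSU n F q) := by
  classical
  obtain ⟨i₀, hi₀⟩ : ∃ i : Fin n, i.val = 0 := ⟨⟨0, by omega⟩, rfl⟩
  obtain ⟨i₁, hi₁⟩ : ∃ i : Fin n, i.val = 1 := ⟨⟨1, by omega⟩, rfl⟩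
  obtain ⟨i₂, hi₂⟩ : ∃ i : Fin n, i.val = 2 := ⟨⟨2, by omega⟩, rfl⟩
  have h01 : i₀ ≠ i₁ := fun h => by have := congrArg Fin.val h; omega
  have h20 : i₂ ≠ i₀ := fun h => by have := congrArg Fin.val h; omega
  have h21 : i₂ ≠ i₁ := fun h => by have := congrArg Fin.val h; omega
  obtain ⟨d, hd⟩ : ∃ d : Fin n → F,
      d = fun i => (if i = i₀ then (-1 : F) else 1) * (if i = i₁ then (-1 : F) else 1) :=
    ⟨_, rfl⟩
  have hdd : ∀ i, d i * d i = 1 := by
    intro i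
    rw [hd]
    dsimp only
    split_ifs <;> ring
  have hdq : ∀ i, d i ^ (q + 1) = 1 := by
    intro i
    obtain ⟨m, hm⟩ := hq.add_one
    rw [hm, ← two_mul, pow_mul, pow_two, hdd, one_pow]
  have hdet : (Matrix.diagonal d).det = 1 := by
    rw [Matrix.det_diagonal, hd, Finset.prod_mul_distrib, Finset.prod_ite_eq', Finset.prod_ite_eq']
    simp
  obtain ⟨S, hS⟩ : ∃ S : SLn, (S : Mx) = Matrix.diagonal d := ⟨⟨_, hdet⟩, rfl⟩
  have hSU : S ∈ Cfsg.SU n F q := by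
    intro u v
    show Cfsg.hermForm n F q ((S : Mx) *ᵥ u) ((S : Mx) *ᵥ v) = Cfsg.hermForm n F q u v
    rw [hS]
    unfold Cfsg.hermForm
    refine Finset.sum_congr rfl fun i _ => ?_
    rw [Matrix.mulVec_diagonal, Matrix.mulVec_diagonal, mul_pow]
    calc d i * u i * (d i ^ q * v i ^ q) = d i ^ (q + 1) * (u i * v i ^ q) := by ring
      _ = u i * v i ^ q := by rw [hdq, one_mul]
  obtain ⟨x, hx⟩ : ∃ x : Cfsg.PSU n F q, x = QuotientGroup.mk (⟨S, hSU⟩ : ↥(Cfsg.SU n F q)) :=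
    ⟨_, rfl⟩
  have hx2 : x ^ 2 = 1 := by
    rw [hx, ← QuotientGroup.mk_pow]
    have h1 : (⟨S, hSU⟩ : ↥(Cfsg.SU n F q)) ^ 2 = 1 := by
      apply Subtype.ext
      apply Subtype.ext
      show ((S ^ 2 : SLn) : Mx) = ((1 : SLn) : Mx)
      rw [pow_two, Matrix.SpecialLinearGroup.coe_mul, hS, Matrix.diagonal_mul_diagonal,
        Matrix.SpecialLinearGroup.coe_one, ← Matrix.diagonal_one]
      congr 1
      funext i
      exact hdd i
    rw [h1]
    rfl
  have hx1 : x ≠ 1 := by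
    intro h1
    rw [hx] at h1
    obtain ⟨c, hc⟩ := scalar_of_mk_eq_one hF hn h32 _ h1
    have hc' : Matrix.diagonal d = (c : F) • (1 : Mx) := by
      rw [← hS]
      exact hc
    have e0 := congrFun (congrFun hc' i₀) i₀
    have e2 := congrFun (congrFun hc' i₂) i₂
    rw [Matrix.diagonal_apply_eq, Matrix.smul_apply, Matrix.one_apply_eq, smul_eq_mul, mul_one]
      at e0 e2
    have hd0 : d i₀ = -1 := by
      rw [hd]
      dsimp only
      rw [if_pos rfl, if_neg h01, mul_one]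
    have hd2 : d i₂ = 1 := by
      rw [hd]
      dsimp only
      rw [if_neg h20, if_neg h21, mul_one]
    rw [hd0] at e0
    rw [hd2] at e2
    apply h2
    linear_combination e2 - e0
  haveI : Fact (Nat.Prime 2) := ⟨Nat.prime_two⟩
  have ho : orderOf x = 2 := orderOf_eq_prime hx2 hx1
  rw [← ho]
  exact orderOf_dvd_natCard x

/-- A non-trivial element of `PSU_n(q)` fixed by every field automorphism. -/
theorem exists_fixed_ne_one (hF : Fintype.card F = q ^ 2) (hn : 3 ≤ n)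
    (h32 : ¬ (n = 3 ∧ q = 2)) :
    ∃ x : Cfsg.PSU n F q, x ≠ 1 ∧ ∀ σ : RingAut F,
      (PSUAut.fU σ : MulAut (Cfsg.PSU n F q)) x = x := by
  classical
  obtain ⟨i₀, hi₀⟩ : ∃ i : Fin n, i.val = 0 := ⟨⟨0, by omega⟩, rfl⟩
  obtain ⟨i₁, hi₁⟩ : ∃ i : Fin n, i.val = 1 := ⟨⟨1, by omega⟩, rfl⟩
  obtain ⟨i₂, hi₂⟩ : ∃ i : Fin n, i.val = 2 := ⟨⟨2, by omega⟩, rfl⟩
  have h01 : i₀ ≠ i₁ := fun h => by have := congrArg Fin.val h; omega
  have h02 : i₀ ≠ i₂ := fun h => by have := congrArg Fin.val h; omega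
  have h12 : i₁ ≠ i₂ := fun h => by have := congrArg Fin.val h; omega
  obtain ⟨c, hc⟩ : ∃ c : Equiv.Perm (Fin n), c = Equiv.swap i₀ i₁ * Equiv.swap i₁ i₂ :=
    ⟨_, rfl⟩
  have hc0 : c i₀ = i₁ := by
    rw [hc, Equiv.Perm.mul_apply, Equiv.swap_apply_of_ne_of_ne h01 h02, Equiv.swap_apply_left]
  have hdet : (Equiv.Perm.permMatrix F c).det = 1 := by
    rw [Matrix.det_permutation, hc, Equiv.Perm.sign_mul, Equiv.Perm.sign_swap h01,
      Equiv.Perm.sign_swap h12]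
    simp
  obtain ⟨S, hS⟩ : ∃ S : SLn, (S : Mx) = Equiv.Perm.permMatrix F c := ⟨⟨_, hdet⟩, rfl⟩
  have hSU : S ∈ Cfsg.SU n F q := by
    intro u v
    show Cfsg.hermForm n F q ((S : Mx) *ᵥ u) ((S : Mx) *ᵥ v) = Cfsg.hermForm n F q u v
    rw [hS, Matrix.permMatrix_mulVec, Matrix.permMatrix_mulVec]
    unfold Cfsg.hermForm
    exact Equiv.sum_comp c (fun i => u i * v i ^ q)
  refine ⟨QuotientGroup.mk (⟨S, hSU⟩ : ↥(Cfsg.SU n F q)), ?_, ?_⟩
  · intro h1
    obtain ⟨a, ha⟩ := scalar_of_mk_eq_one hF hn h32 _ h1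
    have ha' : Equiv.Perm.permMatrix F c = (a : F) • (1 : Mx) := by
      rw [← hS]
      exact ha
    have e0 := congrFun (congrFun ha' i₀) i₁
    rw [Matrix.smul_apply, Matrix.one_apply_ne h01, smul_zero] at e0
    have e1 : Equiv.Perm.permMatrix F c i₀ i₁ = 1 := by
      simp [Equiv.Perm.permMatrix, PEquiv.toMatrix_apply, Equiv.toPEquiv_apply, hc0]
    rw [e1] at e0
    exact one_ne_zero e0
  · intro σ
    rw [PSUAut.fU_mk]
    congr 1
    apply Subtype.ext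
    apply Subtype.ext
    rw [PSUAut.fAutU_coe, fAutN_coe]
    show (S : Mx).map σ = (S : Mx)
    rw [hS]
    ext i l
    simp only [Matrix.map_apply, Equiv.Perm.permMatrix, PEquiv.toMatrix_apply]
    split_ifs <;> simp

end Cfsg.Agent.Lib.Helper43.PSUBal
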