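import Mathlib
import Cfsg.Agent.Lib.Helper43.PSUBal.GraphMainU
import Cfsg.Agent.Lib.Helper43.PSUBal.Prelim
import Cfsg.Agent.Lib.Helper45.HermGU
import Cfsg.Agent.S2692

set_option autoImplicit false

/-!
# Local balance for `PSU_n(q)`: assembly

The criterion for non-inner-diagonal automorphisms of prime order, modulo the two statements
`H1` (the special case `PSU_3(8)`, `p = 3`) and `H3` (field automorphisms of odd prime order
with `p` dividing the number of fixed points), which are proved elsewhere.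
-/

namespace Cfsg.Agent.Lib.Helper43.PSUBal

open Matrix Cfsg.Agent.Lib.Helper43.AutPSLn Cfsg.Agent.Lib.Helper43.FieldAut
  Cfsg.Agent.Lib.Helper43.AutSp4 Cfsg.Agent.Lib.Helper43.PSLBal Cfsg.Agent.Lib.Helper8
  Cfsg.Agent.Lib.Helper8.PSUSplit Cfsg.Agent.Lib.Helper45

variable {n : ℕ} {F : Type*} [Field F] [Fintype F] {q : ℕ}

local notation "Mx" => Matrix (Fin n) (Fin n) F
local notation "GLn" => GL (Fin n) F
local notation "PSUn" => Cfsg.PSU n F q

theorem finite_psu : Finite (Cfsg.PSU n F q) := by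
  haveI : Finite (Matrix.SpecialLinearGroup (Fin n) F) :=
    Finite.of_injective (fun s : Matrix.SpecialLinearGroup (Fin n) F => (s : Mx))
      Subtype.val_injective
  exact Finite.of_surjective (QuotientGroup.mk' _) (QuotientGroup.mk'_surjective _)

theorem conj_mem_centralizer_of_fix {K : Type*} [Group K] (β : MulAut K) (t : K)
    (ht : β t = t) : MulAut.conj t ∈ Subgroup.centralizer {β} := by
  rw [Subgroup.mem_centralizer_iff]
  intro z hz
  rw [Set.mem_singleton_iff] at hz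
  subst hz
  have h1 := conj_aut z t
  rw [ht, mul_inv_eq_iff_eq_mul] at h1
  exact h1

/-- The fixed points of the field automorphism give a normal subgroup of its centralizer. -/
theorem core_fU_backward (hF : Fintype.card F = q ^ 2) (hn : 3 ≤ n) (h32 : ¬ (n = 3 ∧ q = 2))
    (σ : RingAut F) (A : Subgroup (MulAut PSUn)) (hinn : ∀ t : PSUn, MulAut.conj t ∈ A) (p : ℕ)
    (hcop : Nat.Coprime p (Nat.card ↥(MonoidHom.eqLocus
      (PSUAut.fU σ : MulAut PSUn).toMonoidHom (MonoidHom.id PSUn)))) :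
    HasCore p (A ⊓ Subgroup.centralizer {(PSUAut.fU σ : MulAut PSUn)}) := by
  refine ⟨(MonoidHom.eqLocus (PSUAut.fU σ : MulAut PSUn).toMonoidHom (MonoidHom.id PSUn)).map
    MulAut.conj, ?_, ?_, ?_, ?_⟩
  · rintro _ ⟨t, ht, rfl⟩
    exact ⟨hinn t, conj_mem_centralizer_of_fix _ t ht⟩
  · rintro d ⟨hdA, hdC⟩ _ ⟨t, ht, rfl⟩
    have hdC' : d ∈ Subgroup.centralizer {(PSUAut.fU σ : MulAut PSUn)} := hdC
    rw [Subgroup.mem_centralizer_iff] at hdC'
    have hcomm := hdC' (PSUAut.fU σ) rfl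
    have ht' : (PSUAut.fU σ : MulAut PSUn) t = t := ht
    refine ⟨d t, ?_, (conj_aut d t).symm⟩
    show (PSUAut.fU σ : MulAut PSUn) (d t) = d t
    have h2 := congrArg (fun a : MulAut PSUn => a t) hcomm
    simp only [MulAut.mul_apply] at h2
    rw [h2, ht']
  · rw [Subgroup.card_map_of_injective (PSUOut.conj_injective hF hn h32)]
    exact hcop.symm
  · intro h
    obtain ⟨x, hx1, hxfix⟩ := exists_fixed_ne_one (n := n) (q := q) hF hn h32
    have h1 : MulAut.conj x ∈ (MonoidHom.eqLocus (PSUAut.fU σ : MulAut PSUn).toMonoidHom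
        (MonoidHom.id PSUn)).map MulAut.conj := ⟨x, hxfix σ, rfl⟩
    rw [h, Subgroup.mem_bot] at h1
    exact hx1 (PSUOut.conj_injective hF hn h32 (h1.trans (map_one _).symm))

/-- In the case `(n, q₀) = (3, 2)`, a prime `p ≠ 2` dividing the number of fixed points of the
field automorphism is `3`. -/
theorem eq_three_of_dvd (hF : Fintype.card F = q ^ 2) (h32 : ¬ ((3 : ℕ) = 3 ∧ q = 2))
    (hN : (Cfsg.inndiagPSU 3 F q).Normal)
    {F₀ : Type*} [Field F₀] [Fintype F₀] (hF₀ : Fintype.card F₀ = 2 ^ 2) {p : ℕ} (hp : p.Prime)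
    (hp2 : p ≠ 2) (hqq : q = 2 ^ p) (σ : RingAut F) (j : F₀ →+* F) (hj : IsFixEmb σ j)
    (hσ : orderOf σ = p)
    (hdvd : p ∣ Nat.card ↥(MonoidHom.eqLocus
      (PSUAut.fU σ : MulAut (Cfsg.PSU 3 F q)).toMonoidHom (MonoidHom.id (Cfsg.PSU 3 F q)))) :
    p = 3 := by
  have hpodd : Odd p := hp.odd_of_ne_two hp2
  obtain ⟨eq⟩ := PSUField.centralizer_equiv hF (le_refl 3) h32 hF₀ hqq hpodd σ j hj hσ hN 1
  rw [one_mul, inv_one, mul_one] at eq
  have h1 : (MonoidHom.eqLocus (PSUAut.fU σ : MulAut (Cfsg.PSU 3 F q)).toMonoidHom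
      (MonoidHom.id (Cfsg.PSU 3 F q))).map MulAut.conj ≤
      Cfsg.inndiagPSU 3 F q ⊓
        Subgroup.centralizer {(PSUAut.fU σ : MulAut (Cfsg.PSU 3 F q))} := by
    rintro _ ⟨t, ht, rfl⟩
    refine ⟨?_, conj_mem_centralizer_of_fix _ t ht⟩
    rw [← range_cV hF (by norm_num)]
    exact inn_le_range_cV ⟨t, rfl⟩
  have h2 := Subgroup.card_dvd_of_le h1
  rw [Subgroup.card_map_of_injective (PSUOut.conj_injective hF (le_refl 3) h32),
    Nat.card_congr eq.toEquiv] at h2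
  have h3 : Nat.card (Cfsg.PGU 3 F₀ 2) ∣ Nat.card ↥(Cfsg.GU 3 F₀ 2) :=
    Subgroup.card_quotient_dvd_card _
  have h4 : Nat.card ↥(Cfsg.GU 3 F₀ 2) = 648 := by
    rw [card_GU hF₀]
    simp [Finset.prod_range_succ]
  rw [h4] at h3
  have h5 : p ∣ 2 ^ 3 * 3 ^ 4 := (hdvd.trans h2).trans h3
  rcases (Nat.Prime.dvd_mul hp).mp h5 with h | h
  · exact absurd ((Nat.prime_dvd_prime_iff_eq hp Nat.prime_two).mp (hp.dvd_of_dvd_pow h)) hp2
  · exact (Nat.prime_dvd_prime_iff_eq hp Nat.prime_three).mp (hp.dvd_of_dvd_pow h)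

/-- Local balance for `PSU_n(q)`, modulo the statements `H1` and `H3`. -/
theorem balance_psu_of (r : ℕ) [Fact r.Prime] [CharP F r]
    (hF : Fintype.card F = q ^ 2) (hn : 3 ≤ n)
    (hK : IsSimpleGroup (Cfsg.PSU n F q))
    (𝒢 : Subgroup (MulAut (Cfsg.PSU n F q))) (hinn : ∀ k : Cfsg.PSU n F q, MulAut.conj k ∈ 𝒢)
    (p : ℕ) [Fact p.Prime] (hpr : p ≠ r) (β : MulAut (Cfsg.PSU n F q)) (hord : orderOf β = p)
    (hnot : ¬ Cfsg.IsInnerDiagonalAutPSU β)
    (H1 : n = 3 → q = 8 → ∀ σ : RingAut F, orderOf σ = 3 →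
      ∀ A : Subgroup (MulAut (Cfsg.PSU n F q)), (∀ t : Cfsg.PSU n F q, MulAut.conj t ∈ A) →
        ¬ HasCore 3 (A ⊓ Subgroup.centralizer {(PSUAut.fU σ : MulAut (Cfsg.PSU n F q))}))
    (H3 : (∀ β : MulAut (Cfsg.PSU n F q), ∃ (δ φ : MulAut (Cfsg.PSU n F q)) (σ : F ≃+* F),
        Cfsg.IsInnerDiagonalAutPSU δ ∧ Cfsg.IsFieldAutPSUOf σ φ ∧ β = δ * φ) →
      ∀ (σ : RingAut F) (q₀ : ℕ), Nat.card ↥(fixF σ) = q₀ ^ 2 → ¬ (n = 3 ∧ q₀ = 2) →
      p ≠ 2 → q = q₀ ^ p → orderOf σ = p →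
      ∀ A : Subgroup (MulAut (Cfsg.PSU n F q)), (∀ t : Cfsg.PSU n F q, MulAut.conj t ∈ A) →
        p ∣ Nat.card ↥(MonoidHom.eqLocus
          (PSUAut.fU σ : MulAut (Cfsg.PSU n F q)).toMonoidHom (MonoidHom.id (Cfsg.PSU n F q))) →
        ¬ HasCore p (A ⊓ Subgroup.centralizer {(PSUAut.fU σ : MulAut (Cfsg.PSU n F q))})) :
    Cfsg.pPrimeCore p ↥(𝒢 ⊓ Subgroup.centralizer {β}) ≠ ⊥ ↔
      ((∃ γ φ : MulAut (Cfsg.PSU n F q), Cfsg.IsInnerDiagonalAutPSU γ ∧
          (∃ σ : F ≃+* F, Cfsg.IsFieldAutPSUOf σ φ) ∧ β = φ.trans γ) ∧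
        Nat.Coprime p (Nat.card ↥(MonoidHom.eqLocus β.toMonoidHom
          (MonoidHom.id (Cfsg.PSU n F q))))) := by
  have hp : p.Prime := Fact.out
  have h32 := h32_of_simple hF hK
  obtain ⟨p', f, hp', hchar, hq⟩ := q_prime_pow hF
  have hrp : p' = r := CharP.eq F hchar ‹CharP F r›
  subst hrp
  clear hchar
  have hq2 := two_le_q hF
  have hf : 1 ≤ f := by
    by_contra hf0
    have : f = 0 := by omega
    rw [this, pow_zero] at hq
    omega
  have hAut : ∀ β : MulAut (Cfsg.PSU n F q), ∃ (δ φ : MulAut (Cfsg.PSU n F q)) (σ : F ≃+* F),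
      Cfsg.IsInnerDiagonalAutPSU δ ∧ Cfsg.IsFieldAutPSUOf σ φ ∧ β = δ * φ :=
    fun β => Cfsg.Agent.S2692.result hq hf hF hn h32 β
  obtain ⟨σ, u, hβ⟩ := PSUOut.twU_exists hF hn hAut β
  subst hβ
  have hid : Cfsg.IsInnerDiagonalAutPSU (cV u : MulAut PSUn) :=
    (PSUAut.innerDiag_iff _).mpr ⟨(u : GLn), u.2, cV_apply u⟩
  have hexist : ∃ γ φ : MulAut (Cfsg.PSU n F q), Cfsg.IsInnerDiagonalAutPSU γ ∧
      (∃ σ' : F ≃+* F, Cfsg.IsFieldAutPSUOf σ' φ) ∧
      (cV u * PSUAut.fU σ : MulAut PSUn) = φ.trans γ :=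
    ⟨cV u, PSUAut.fU σ, hid, ⟨σ, (PSUAut.fieldAut_iff σ _).mpr rfl⟩, rfl⟩
  have hσ1 : σ ≠ 1 := by
    rintro rfl
    apply hnot
    rw [map_one, mul_one]
    exact hid
  have hβp : (cV u * PSUAut.fU σ : MulAut PSUn) ^ p = 1 := by
    rw [← hord, pow_orderOf_eq_one]
  have hσp : σ ^ p = 1 := by
    have h1 := hβp
    rw [PSUField.pow_cV_fU] at h1
    have h2 : (PSUAut.fU (σ ^ p) : MulAut PSUn) = cV (PSUField.nrmV σ u p)⁻¹ := by
      rw [map_inv]
      exact eq_inv_of_mul_eq_one_right h1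
    exact PSUOut.eq_one_of_fU_eq hF hn h32 _ _ h2
  have hσo : orderOf σ = p := orderOf_eq_prime hσp hσ1
  rw [pPrimeCore_ne_bot_iff]
  by_cases hp2 : p = 2
  · subst hp2
    have hr2 : p' ≠ 2 := fun h => hpr h.symm
    have hσf : σ = frobQ hF := by
      have hF' : Fintype.card F = p' ^ (f * 2) := by rw [hF, hq, pow_mul]
      exact involution_unique hF' σ (frobQ hF) hσ1 (by rw [← pow_two]; exact hσp)
        (frobQ_ne_one hF) (frobQ_sq hF)
    subst hσf
    have hno : ¬ HasCore 2 (𝒢 ⊓ Subgroup.centralizer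
        {(cV u * PSUAut.fU (frobQ hF) : MulAut PSUn)}) :=
      graph_no_core_psu hF hn h32 p' hr2 hAut 𝒢 hinn (u : GLn) u.2 hβp
    constructor
    · intro h
      exact absurd h hno
    · rintro ⟨-, hcop⟩
      exfalso
      haveI := finite_psu (n := n) (F := F) (q := q)
      have hqodd : Odd q := by
        rw [hq]
        exact ((Fact.out : p'.Prime).odd_of_ne_two hr2).pow
      have h2F : (2 : F) ≠ 0 := two_ne_zero_of_char p' hr2
      have hdvd := two_dvd_card_fix (cV u * PSUAut.fU (frobQ hF) : MulAut PSUn) hβp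
        (two_dvd_card_psu hF hn h32 hqodd h2F)
      exact (Nat.Prime.coprime_iff_not_dvd Nat.prime_two).mp hcop hdvd
  · have hpodd : Odd p := hp.odd_of_ne_two hp2
    obtain ⟨-, hcardF₀, hqq⟩ := PSUField.fix_data hq hF σ hp hpodd hσo
    obtain ⟨q₀, hq₀⟩ : ∃ q₀ : ℕ, q₀ = p' ^ (f / p) := ⟨_, rfl⟩
    rw [← hq₀] at hcardF₀ hqq
    haveI : Fintype ↥(fixF σ) := Fintype.ofFinite _
    have hF₀ : Fintype.card ↥(fixF σ) = q₀ ^ 2 := by
      rw [← Nat.card_eq_fintype_card]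
      exact hcardF₀
    obtain ⟨k, hk⟩ := PSUField.conj_of_pow_eq_one hF hn h32 hF₀ hqq hpodd σ (fixF σ).subtype
      (PSUField.isFixEmb_subtype σ) hσo u hβp
    obtain ⟨e, he⟩ : ∃ e : MulAut PSUn ≃* MulAut PSUn, e = MulAut.conj (cV k : MulAut PSUn)⁻¹ :=
      ⟨_, rfl⟩
    have hex : e (cV u * PSUAut.fU σ) = PSUAut.fU σ := by
      rw [he, MulAut.conj_apply, hk]
      group
    have hinn' : ∀ t : PSUn, MulAut.conj t ∈ 𝒢.map e.toMonoidHom := by
      intro t
      refine ⟨MulAut.conj (cV k t), hinn _, ?_⟩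
      show e (MulAut.conj (cV k t)) = MulAut.conj t
      rw [he, MulAut.conj_apply, ← conj_aut]
      group
    have hcore : HasCore p (𝒢 ⊓ Subgroup.centralizer {(cV u * PSUAut.fU σ : MulAut PSUn)}) ↔
        HasCore p (𝒢.map e.toMonoidHom ⊓
          Subgroup.centralizer {(PSUAut.fU σ : MulAut PSUn)}) := by
      have h1 := hasCore_map_iff e (p := p) (A := 𝒢) (x := (cV u * PSUAut.fU σ : MulAut PSUn))
      rw [hex] at h1
      exact h1.symm
    have hcard : Nat.card ↥(MonoidHom.eqLocus (cV u * PSUAut.fU σ : MulAut PSUn).toMonoidHom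
          (MonoidHom.id PSUn)) =
        Nat.card ↥(MonoidHom.eqLocus (PSUAut.fU σ : MulAut PSUn).toMonoidHom
          (MonoidHom.id PSUn)) := by
      apply Nat.card_congr
      refine Equiv.subtypeEquiv ((cV k : MulAut PSUn)⁻¹).toEquiv (fun y => ?_)
      show (cV u * PSUAut.fU σ : MulAut PSUn) y = y ↔
        (PSUAut.fU σ : MulAut PSUn) ((cV k)⁻¹ y) = (cV k)⁻¹ y
      rw [hk]
      simp only [MulAut.mul_apply]
      constructor
      · intro h
        conv_rhs => rw [← h]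
        rw [MulAut.inv_apply_self]
      · intro h
        rw [h, MulAut.apply_inv_self]
    rw [hcore, hcard]
    constructor
    · intro h
      refine ⟨hexist, ?_⟩
      rw [Nat.Prime.coprime_iff_not_dvd hp]
      intro hdvd
      by_cases h32₀ : n = 3 ∧ q₀ = 2
      · obtain ⟨hn3, hq₀2⟩ := h32₀
        subst hn3
        rw [hq₀2] at hF₀ hqq
        have hN := PSUField.inndiag_normal hF (le_refl 3) hAut
        have hp3 : p = 3 := eq_three_of_dvd hF h32 hN hF₀ hp hp2 hqq σ (fixF σ).subtype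
          (PSUField.isFixEmb_subtype σ) hσo hdvd
        have hq8 : q = 8 := by
          rw [hqq, hp3]
          norm_num
        have hno := H1 rfl hq8 σ (by rw [hσo, hp3]) _ hinn'
        rw [hp3] at h
        exact hno h
      · exact H3 hAut σ q₀ hcardF₀ h32₀ hp2 hqq hσo _ hinn' hdvd h
    · rintro ⟨-, hcop⟩
      exact core_fU_backward hF hn h32 σ _ hinn' p hcop

end Cfsg.Agent.Lib.Helper43.PSUBal
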