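import Mathlib
import Cfsg.Agent.Lib.Helper43.PSUBal.Main
import Cfsg.Agent.Lib.Helper74.PSUBal38
import Cfsg.Agent.Lib.Helper98.PSUBalField

set_option autoImplicit false

/-!
# Local balance for `PSU_n(q)`: the criterion for non-inner-diagonal automorphisms

Assembly of the graph case (`graph_no_core_psu`), the field case (`Helper98.PSUBalField`) and the
special case `PSU_3(8)` (`Helper74.PSUBal38`).
-/

namespace Cfsg.Agent.Lib.Helper43.PSUBal

open Matrix Cfsg.Agent.Lib.Helper43.AutPSLn Cfsg.Agent.Lib.Helper43.FieldAut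
  Cfsg.Agent.Lib.Helper43.AutSp4 Cfsg.Agent.Lib.Helper8

/-- Local balance for `PSU_n(q)`: the criterion for non-inner-diagonal automorphisms of prime
order. -/
theorem balance_psu (F : Type*) [Field F] [Fintype F] (r : ℕ) [Fact r.Prime] [CharP F r]
    (q : ℕ) (hF : Fintype.card F = q ^ 2) (n : ℕ) (hn : 3 ≤ n)
    (hK : IsSimpleGroup (Cfsg.PSU n F q))
    (𝒢 : Subgroup (MulAut (Cfsg.PSU n F q))) (hinn : ∀ k : Cfsg.PSU n F q, MulAut.conj k ∈ 𝒢)
    (p : ℕ) [Fact p.Prime] (hpr : p ≠ r) (β : MulAut (Cfsg.PSU n F q)) (hord : orderOf β = p)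
    (hnot : ¬ Cfsg.IsInnerDiagonalAutPSU β) :
    Cfsg.pPrimeCore p ↥(𝒢 ⊓ Subgroup.centralizer {β}) ≠ ⊥ ↔
      ((∃ γ φ : MulAut (Cfsg.PSU n F q), Cfsg.IsInnerDiagonalAutPSU γ ∧
          (∃ σ : F ≃+* F, Cfsg.IsFieldAutPSUOf σ φ) ∧ β = φ.trans γ) ∧
        Nat.Coprime p (Nat.card ↥(MonoidHom.eqLocus β.toMonoidHom
          (MonoidHom.id (Cfsg.PSU n F q))))) := by
  have h32 := h32_of_simple hF hK
  refine balance_psu_of r hF hn hK 𝒢 hinn p hpr β hord hnot ?_ ?_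
  · intro hn3 hq8 σ hσ A hA
    subst hn3
    subst hq8
    exact Cfsg.Agent.Lib.Helper74.PSUBal38.no_core_three_eight hF σ hσ A hA
  · intro hAut σ q₀ hcard h32₀ hp2 hqq hσo A hA hdvd
    haveI : Fintype ↥(fixF σ) := Fintype.ofFinite _
    have hF₀ : Fintype.card ↥(fixF σ) = q₀ ^ 2 := by
      rw [← Nat.card_eq_fintype_card]
      exact hcard
    exact Cfsg.Agent.Lib.Helper98.PSUBalField.field_no_core hF hn h32 hAut hF₀ h32₀ p hp2 hqq σ
      hσo (fixF σ).subtype (PSUField.isFixEmb_subtype σ) A hA hdvd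

end Cfsg.Agent.Lib.Helper43.PSUBal
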